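import Cfsg.Agent.CosetCert.Pack

/-! Generated: the facts of the log. -/

namespace Cfsg.Agent.Fi23Mult.W56

open Cfsg.Agent.CosetCert

def factStore : Store := (.node 1 (.leaf 0x60000f0000f030000f0000f020000f0000f010000f0000f060000e0000e050000e0000e020000e0000e000000c0000e060000d0000d050000d0000d040000d0000d020000d0000d000000d0000d060000c0000c050000c0000c020000c0000c010000c0000c060000b0000b050000b0000b040000b0000b000000a0000b060000a0000a050000a0000a040000a0000a010000a0000a05000090000904000090000903000090000901000090000900000080000905000080000804000080000803000080000801000060000805000070000704000070000703000070000702000070000701000070000705000060000604000060000603000060000602000060000600000060000605000050000504000050000503000050000502000050000505000040000404000040000403000040000400000040000406000030000305000030000304000030000301000030000300000030000306000020000205000020000202000020000201000020000200000020000206000010000103000010000102000010000101000010000100000010000106000000000004000000000003000000000002000000000001000000000000000000000005000370003604000360003503000350003402000340003306000330003106000320002f01000310002f06000300002e020002f0002d020002e0002c030002d0002b030002c00028000002b00028000002a0002603000290002501000280002500000270002401000260002302000250002201000240002102000230002006000220001f02000210001d06000200001c040001f0001c060001e0001a060001d00019050001c00019060001b00016050001a0001603000190001605000180001406000170001304000160001305000150001104000140001002000130001005000120000f04000110000e03000100000d040000f0000c030000e0000b010000d0000b030000c0000a020000b00009020000a00008060000900007060000800005000000700005060000600004010000500004020000400003030000300002040000200001050000100000)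 (.node 2 (.leaf 0x10002d0002d000002c0002d060002c0002c050002c0002c040002c0002c01000290002c060002b0002b050002b0002b040002a0002b020002b0002b010002b0002b060002a0002a05000270002a030002a0002a020002a0002a010002a0002a060002900029050002900029040002900029020002900029000002900029060002800028050002800028040002600028020002800028060002700027040002700027030002700027020002700027010002700027060002600026050002400026030002600026020002600026060002500025050002500025040002300025000002500025060002400024040002400024030002400024020002400024060002300023050002100023030002300023000002300023050002200022040002000022030002200022010002200022000002200022060002100021040002100021030002100021000002100021050001d00020030001e00020010002000020000002000020050001f0001f030001f0001f020001f0001f010001f0001f000001f0001f050001b0001e040001e0001e020001e0001e010001e0001e000001e0001e040001d0001d030001b0001d010001d0001d000001d0001d030001a0001c020001c0001c010001c0001c000001c0001c04000170001b020001b0001b010001b0001b000001b0001b040001a0001a02000180001a010001a0001a000001a0001a040001900019020001900019010001900019000001900019060001800018040001800018030001800018010001500018000001800018050001700017030001700017020001700017010001700017000001700017020001400016010001600016000001600016060001500015040001500015030001500015020001500015000001200015060001400014030001400014010001100014000001400014050001300013030001300013010001300013000001300013060001200012040001200012030001200012020001200012010001200012060001100011030001100011020001100011000000f00011060001000010050001000010010000e00010000001000010)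 (.leaf 0x60003700037040003700037030003700037020003700037010003700037000003700037060003600036030003600036020003600036010003600036000003600036060003500035050003500035020003500035010003500035000003500035060003400034050003400034040003400034010003400034000003400034050003300033040003300033030003300033010003200033000003300033050003200032040003200032030003200032020003200032000003000032050003100031040003100031030003100031020003100031000003100031050003000030040003000030030003000030020003000030010003000030050002f0002f040002f0002f030002f0002f000002e0002f050002e0002e040002e0002e030002e0002e010002e0002e060002d0002d050002d0002d040002d0002d)))

end Cfsg.Agent.Fi23Mult.W56
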